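import Mathlib

/-!
# Groups of central type: the wreath-type step

`IsCT H`: every noncentral element has a nontrivial central commutator.
* `Step.exists_ct`: from `K` with `IsCT K`, a group `Q` with a nondegenerate pairing into `Z(K)`
  and `M → K/Z(K)` injective, `M` normal in `G` with `G/M ≅ Q`, a group `H` with `IsCT H`,
  `Z(H) ≅ Z(K)` (as cardinals) and `G ↪ H/Z(H)`.
* `exists_ct_of_solvable`: the induction.
-/

set_option autoImplicit false
set_option linter.style.haveILetI false

open scoped IsMulCommutative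

namespace Cfsg.Agent.CentralType

universe u

/-- Every noncentral element has a nontrivial central commutator. -/
def IsCT (H : Type*) [Group H] : Prop :=
  ∀ g : H, g ∉ Subgroup.center H → ∃ h : H, h * g * h⁻¹ * g⁻¹ ∈ Subgroup.center H ∧
    h * g * h⁻¹ * g⁻¹ ≠ 1

section Step

variable {K Q : Type*} [Group K] [CommGroup Q]
  (b : Q →* Q →* Subgroup.center K)

/-- The base group. -/
abbrev Base (K Q : Type*) [Group K] : Type _ := (Q → K) × Subgroup.center K × Q

/-- One automorphism of the base. -/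
def shift (q : Q) : Base K Q ≃* Base K Q where
  toFun n := (fun x => n.1 (x * q), n.2.1 * b q n.2.2, n.2.2)
  invFun n := (fun x => n.1 (x * q⁻¹), n.2.1 * (b q n.2.2)⁻¹, n.2.2)
  left_inv n := Prod.ext (funext fun x => by simp) (Prod.ext (by simp) rfl)
  right_inv n := Prod.ext (funext fun x => by simp) (Prod.ext (by simp) rfl)
  map_mul' n m := Prod.ext (funext fun x => rfl)
    (Prod.ext (by simp only [Prod.fst_mul, Prod.snd_mul, map_mul]; exact mul_mul_mul_comm _ _ _ _) rfl)

/-- The action. -/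
def act : Q →* MulAut (Base K Q) where
  toFun := shift b
  map_one' := MulEquiv.ext fun n => Prod.ext (funext fun x => by simp [shift])
    (Prod.ext (by simp [shift]) rfl)
  map_mul' q r := MulEquiv.ext fun n => Prod.ext
    (funext fun x => congrArg n.1 (mul_assoc x q r).symm)
    (Prod.ext (by simp only [shift, MulAut.mul_apply, MulEquiv.coe_mk, Equiv.coe_fn_mk, map_mul,
      MonoidHom.mul_apply]; rw [mul_assoc, mul_comm (b q _)]) rfl)

/-- The big group. -/
abbrev Big : Type _ := SemidirectProduct (Base K Q) Q (act b)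

theorem act_apply (q : Q) (n : Base K Q) :
    act b q n = (fun x => n.1 (x * q), n.2.1 * b q n.2.2, n.2.2) := rfl

/-- The preimage of the centre. -/
def zt : Subgroup (Big b) where
  carrier := {w | w.right = 1 ∧ w.left.2.2 = 1 ∧ ∀ x, w.left.1 x ∈ Subgroup.center K}
  one_mem' := ⟨rfl, rfl, fun _ => one_mem _⟩
  mul_mem' := by
    rintro v w ⟨hv1, hv2, hv3⟩ ⟨hw1, hw2, hw3⟩
    refine ⟨by simp [hv1, hw1], ?_, fun x => ?_⟩
    · simp [hv1, hv2, hw2]
    · simpa [hv1] using mul_mem (hv3 x) (hw3 x)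
  inv_mem' := by
    rintro v ⟨hv1, hv2, hv3⟩
    refine ⟨by simp [hv1], ?_, fun x => ?_⟩
    · simp [hv1, hv2]
    · simpa [hv1] using inv_mem (hv3 x)

theorem mem_zt {w : Big b} :
    w ∈ zt b ↔ w.right = 1 ∧ w.left.2.2 = 1 ∧ ∀ x, w.left.1 x ∈ Subgroup.center K := Iff.rfl

variable [Fintype Q]

/-- The product of the central coordinates. -/
def mu : zt b →* Subgroup.center K where
  toFun w := w.1.left.2.1 * ∏ x, (⟨w.1.left.1 x, w.2.2.2 x⟩ : Subgroup.center K)
  map_one' := by
    simp only [OneMemClass.coe_one, SemidirectProduct.one_left, Prod.fst_one, Prod.snd_one, Pi.one_apply]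
    exact (one_mul _).trans (Finset.prod_eq_one fun x _ => rfl)
  map_mul' v w := by
    have h1 := v.2.1
    simp only [Subgroup.coe_mul, SemidirectProduct.mul_left, h1, map_one, MulAut.one_apply,
      Prod.fst_mul, Prod.snd_mul, Pi.mul_apply]
    rw [mul_mul_mul_comm, ← Finset.prod_mul_distrib]
    rfl

/-- The kernel. -/
def dd : Subgroup (Big b) := (mu b).ker.map (zt b).subtype

theorem mem_dd {w : Big b} : w ∈ dd b ↔ ∃ h : w ∈ zt b, mu b ⟨w, h⟩ = 1 := by
  constructor
  · rintro ⟨v, hv, rfl⟩; exact ⟨v.2, hv⟩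
  · rintro ⟨h, h'⟩; exact ⟨⟨w, h⟩, h', rfl⟩

theorem dd_le : dd b ≤ zt b := Subgroup.map_subtype_le _

/-- Conjugation on the preimage of the centre. -/
theorem conj_zt {z : Big b} (hz : z ∈ zt b) (w : Big b) :
    w * z * w⁻¹ = ⟨act b w.right z.left, 1⟩ := by
  obtain ⟨h1, h2, h3⟩ := hz
  rw [mul_inv_eq_iff_eq_mul]
  refine SemidirectProduct.ext ?_ (by simp [h1])
  simp only [SemidirectProduct.mul_left, map_one, MulAut.one_apply]
  refine Prod.ext (funext fun x => ?_) (Prod.ext (mul_comm _ _) (mul_comm _ _))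
  exact Subgroup.mem_center_iff.mp (h3 _) _

theorem act_mem_zt {z : Big b} (hz : z ∈ zt b) (q : Q) : (⟨act b q z.left, 1⟩ : Big b) ∈ zt b :=
  ⟨rfl, hz.2.1, fun x => hz.2.2 (x * q)⟩

theorem mu_act {z : Big b} (hz : z ∈ zt b) (q : Q) :
    mu b ⟨_, act_mem_zt b hz q⟩ = mu b ⟨z, hz⟩ := by
  show z.left.2.1 * b q z.left.2.2 * ∏ x, (⟨z.left.1 (x * q), _⟩ : Subgroup.center K) = _
  rw [hz.2.1, map_one, mul_one]
  exact congrArg _ (Equiv.prod_comp (Equiv.mulRight q)
    fun x => (⟨z.left.1 x, hz.2.2 x⟩ : Subgroup.center K))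

instance dd_normal : (dd b).Normal where
  conj_mem z hz w := by
    obtain ⟨h, h'⟩ := (mem_dd b).mp hz
    refine (mem_dd b).mpr ⟨by rw [conj_zt b h]; exact act_mem_zt b h _, ?_⟩
    simp_rw [conj_zt b h]
    rw [mu_act b h, h']

theorem comm_mem_dd {z : Big b} (hz : z ∈ zt b) (w : Big b) : w * z * w⁻¹ * z⁻¹ ∈ dd b := by
  have h1 : w * z * w⁻¹ ∈ zt b := by rw [conj_zt b hz]; exact act_mem_zt b hz _
  refine (mem_dd b).mpr ⟨mul_mem h1 (inv_mem hz), ?_⟩
  rw [show (⟨w * z * w⁻¹ * z⁻¹, mul_mem h1 (inv_mem hz)⟩ : zt b) = ⟨_, h1⟩ * ⟨z, hz⟩⁻¹ from rfl,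
    map_mul, map_inv]
  have e : mu b ⟨w * z * w⁻¹, h1⟩ = mu b ⟨z, hz⟩ := by
    simp_rw [conj_zt b hz]; exact mu_act b hz _
  rw [e, mul_inv_cancel]

/-- The quotient. -/
abbrev Quo : Type _ := Big b ⧸ dd b

/-- The image of the centre's preimage. -/
def zbar : Subgroup (Quo b) := (zt b).map (QuotientGroup.mk' (dd b))

theorem mk_mem_zbar {w : Big b} : (w : Quo b) ∈ zbar b ↔ w ∈ zt b := by
  constructor
  · rintro ⟨v, hv, h⟩
    have := dd_le b (QuotientGroup.eq.mp h)
    simpa using mul_mem hv this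
  · exact fun h => ⟨w, h, rfl⟩

variable (hb1 : ∀ q : Q, q ≠ 1 → ∃ t, b q t ≠ 1) (hb2 : ∀ t : Q, t ≠ 1 → ∃ q, b q t ≠ 1)
  (hK : IsCT K)

include hb1 hb2 hK in
open scoped Classical in
theorem exists_comm {w : Big b} (hw : w ∉ zt b) :
    ∃ v : Big b, v * w * v⁻¹ * w⁻¹ ∈ zt b ∧ v * w * v⁻¹ * w⁻¹ ∉ dd b := by
  suffices h : ∃ (v : Big b) (z : Big b) (hz : z ∈ zt b),
      v * w = z * (w * v) ∧ mu b ⟨z, hz⟩ ≠ 1 by
    obtain ⟨v, z, hz, he, hne⟩ := h
    have : v * w * v⁻¹ * w⁻¹ = z := by rw [he]; group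
    refine ⟨v, this ▸ hz, fun hd => ?_⟩
    obtain ⟨_, hd'⟩ := (mem_dd b).mp (this ▸ hd)
    exact hne hd'
  obtain ⟨⟨f, z, t⟩, q⟩ := w
  by_cases hq : q = 1
  · subst hq
    by_cases hf : ∀ x, f x ∈ Subgroup.center K
    · have ht : t ≠ 1 := fun ht => hw ⟨rfl, ht, hf⟩
      obtain ⟨r, hr⟩ := hb2 t ht
      refine ⟨⟨1, r⟩, ⟨(fun x => f (x * r) * (f x)⁻¹, b r t, 1), 1⟩,
        ⟨rfl, rfl, fun x => mul_mem (hf _) (inv_mem (hf _))⟩, ?_, ?_⟩
      · refine SemidirectProduct.ext ?_ (by simp)
        simp only [SemidirectProduct.mul_left, one_mul, map_one, MulAut.one_apply, act_apply]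
        refine Prod.ext (funext fun x => ?_) (Prod.ext ?_ ?_)
        · simp
        · simp [mul_comm]
        · simp
      · show b r t * _ ≠ 1
        suffices e : ∏ x, (⟨f (x * r) * (f x)⁻¹, mul_mem (hf _) (inv_mem (hf _))⟩ : Subgroup.center K) = 1 by
          rw [e, mul_one]; exact hr
        have e1 : ∀ x, (⟨f (x * r) * (f x)⁻¹, mul_mem (hf _) (inv_mem (hf _))⟩ : Subgroup.center K) =
            ⟨f (x * r), hf _⟩ * (⟨f x, hf x⟩)⁻¹ := fun x => rfl
        rw [Finset.prod_congr rfl (fun x _ => e1 x), Finset.prod_mul_distrib, Finset.prod_inv_distrib,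
          mul_inv_eq_one]
        exact Equiv.prod_comp (Equiv.mulRight r) fun x => (⟨f x, hf x⟩ : Subgroup.center K)
    · push Not at hf
      obtain ⟨x, hx⟩ := hf
      obtain ⟨h, hh, hh1⟩ := hK (f x) hx
      set c : Subgroup.center K := ⟨_, hh⟩
      refine ⟨⟨(Pi.mulSingle x h, 1, 1), 1⟩, ⟨(fun y => (Pi.mulSingle x c : Q → Subgroup.center K) y, 1, 1), 1⟩,
        ⟨rfl, rfl, fun y => ((Pi.mulSingle x c : Q → Subgroup.center K) y).2⟩, ?_, ?_⟩
      · refine SemidirectProduct.ext ?_ (by simp)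
        simp only [SemidirectProduct.mul_left, one_mul, map_one, MulAut.one_apply, SemidirectProduct.mul_right]
        refine Prod.ext (funext fun y => ?_) (Prod.ext ?_ ?_)
        · rcases eq_or_ne y x with rfl | hy
          · simp [c, mul_assoc]
          · simp [Pi.mulSingle_eq_of_ne hy]
        · simp
        · simp
      · show (1 : Subgroup.center K) * ∏ y, (Pi.mulSingle x c : Q → Subgroup.center K) y ≠ 1
        rw [one_mul, Fintype.prod_pi_mulSingle']
        exact fun h' => hh1 (congrArg Subtype.val h')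
  · obtain ⟨s, hs⟩ := hb1 q hq
    refine ⟨⟨(1, 1, s), 1⟩, ⟨(1, (b q s)⁻¹, 1), 1⟩, ⟨rfl, rfl, fun _ => one_mem _⟩, ?_, ?_⟩
    · refine SemidirectProduct.ext ?_ (by simp)
      simp only [SemidirectProduct.mul_left, map_one, MulAut.one_apply, act_apply]
      refine Prod.ext (funext fun x => ?_) (Prod.ext ?_ ?_)
      · simp
      · show (1 : Subgroup.center K) * z = (b q s)⁻¹ * (z * (1 * b q s))
        rw [one_mul, one_mul, mul_comm z, inv_mul_cancel_left]
      · show s * t = 1 * (t * s)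
        rw [one_mul, mul_comm]
    · show (b q s)⁻¹ * ∏ x : Q, (1 : Subgroup.center K) ≠ 1
      simpa using hs

include hb1 hb2 hK in
theorem center_eq : Subgroup.center (Quo b) = zbar b := by
  refine le_antisymm ?_ ?_
  · intro g hg
    induction g using QuotientGroup.induction_on with
    | _ w =>
      rw [mk_mem_zbar]
      by_contra hw
      obtain ⟨v, -, hv⟩ := exists_comm b hb1 hb2 hK hw
      have := Subgroup.mem_center_iff.mp hg (v : Quo b)
      apply hv
      rw [← QuotientGroup.eq_one_iff]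
      simp only [QuotientGroup.mk_mul, QuotientGroup.mk_inv]
      rw [this]; group
  · rintro _ ⟨z, hz, rfl⟩
    rw [Subgroup.mem_center_iff]
    intro g
    induction g using QuotientGroup.induction_on with
    | _ w =>
      have h := (QuotientGroup.eq_one_iff _).mpr (comm_mem_dd b hz w)
      simp only [QuotientGroup.mk_mul, QuotientGroup.mk_inv] at h
      rw [QuotientGroup.mk'_apply]
      calc (w : Quo b) * z = ((w : Quo b) * z * (w : Quo b)⁻¹ * (z : Quo b)⁻¹) * (z * w) := by group
        _ = _ := by rw [h, one_mul]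

include hb1 hb2 hK in
theorem quo_isCT : IsCT (Quo b) := by
  intro g hg
  rw [center_eq b hb1 hb2 hK] at hg ⊢
  induction g using QuotientGroup.induction_on with
  | _ w =>
    obtain ⟨v, hv, hv'⟩ := exists_comm b hb1 hb2 hK (fun h => hg ((mk_mem_zbar b).mpr h))
    refine ⟨v, ?_, ?_⟩
    · simpa using (mk_mem_zbar b).mpr hv
    · intro h
      exact hv' ((QuotientGroup.eq_one_iff _).mp (by simp only [QuotientGroup.mk_mul, QuotientGroup.mk_inv]; exact h))

omit [CommGroup Q] in
theorem prod_one_aux {M : Type*} [CommMonoid M] : ∏ _x : Q, (1 : M) = 1 := Finset.prod_const_one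

include hb1 hb2 hK in
theorem card_center : Nat.card (Subgroup.center (Quo b)) = Nat.card (Subgroup.center K) := by
  rw [center_eq b hb1 hb2 hK]
  have hμ : Function.Surjective (mu b) := fun z => by
    refine ⟨⟨⟨(1, z, 1), 1⟩, rfl, rfl, fun _ => one_mem _⟩, ?_⟩
    show z * ∏ x : Q, (1 : Subgroup.center K) = z
    simp
  have e : ((QuotientGroup.mk' (dd b)).comp (zt b).subtype).range = zbar b := by
    rw [zbar, MonoidHom.range_comp, Subgroup.range_subtype]
  have ek : ((QuotientGroup.mk' (dd b)).comp (zt b).subtype).ker = (mu b).ker := by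
    ext ⟨w, hw⟩
    simp only [MonoidHom.mem_ker, MonoidHom.coe_comp, Function.comp_apply, Subgroup.coe_subtype,
      QuotientGroup.mk'_apply, QuotientGroup.eq_one_iff, mem_dd]
    exact ⟨fun ⟨_, h⟩ => h, fun h => ⟨hw, h⟩⟩
  rw [← e, ← Subgroup.index_ker, ek, Subgroup.index_ker, MonoidHom.range_eq_top.mpr hμ,
    Subgroup.card_top]

omit [Fintype Q] in
theorem card_big : Nat.card (Big b) =
    Nat.card (Q → K) * (Nat.card (Subgroup.center K) * Nat.card Q) * Nat.card Q := by
  rw [SemidirectProduct.card, Nat.card_prod, Nat.card_prod]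

include hb1 hb2 hK in
/-- The embedding `G → H/Z(H)`, from a section of `G → Q` and `M → K/Z(K)`. -/
theorem exists_embed {G : Type*} [Group G] (π : G →* Q) (hπ : Function.Surjective π)
    (ι : π.ker →* K ⧸ Subgroup.center K) (hι : Function.Injective ι) :
    ∃ f : G →* Quo b ⧸ Subgroup.center (Quo b), Function.Injective f := by
  obtain ⟨s, hs⟩ := hπ.hasRightInverse
  let lift : K ⧸ Subgroup.center K → K := Quotient.out
  have hlift : ∀ c, ((lift c : K) : K ⧸ Subgroup.center K) = c := fun c => Quotient.out_eq c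
  let F : G → Q → π.ker := fun g x => ⟨s x * g * (s (x * π g))⁻¹, by
    rw [MonoidHom.mem_ker, map_mul, map_mul, map_inv, hs, hs, mul_inv_cancel]⟩
  let w : G → Big b := fun g => ⟨(fun x => lift (ι (F g x)), 1, 1), π g⟩
  have hFmul : ∀ g h x, F (g * h) x = F g x * F h (x * π g) := fun g h x => Subtype.ext (by
    simp only [F, Subgroup.coe_mul, map_mul, mul_assoc, inv_mul_cancel_left])
  have key : ∀ u v : Big b, u.right = v.right → u.left.2.2 = v.left.2.2 →
      (∀ x, ((u.left.1 x : K) : K ⧸ Subgroup.center K) = v.left.1 x) → u * v⁻¹ ∈ zt b := by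
    rintro ⟨⟨f, z, t⟩, q⟩ ⟨⟨f', z', t'⟩, q'⟩ (rfl : q = q') (rfl : t = t') h
    refine ⟨by simp, by simp [act_apply], fun x => ?_⟩
    rw [← QuotientGroup.eq_one_iff]
    simp [act_apply, h]
  let proj : Big b →* Quo b ⧸ Subgroup.center (Quo b) :=
    (QuotientGroup.mk' _).comp (QuotientGroup.mk' (dd b))
  have hproj : ∀ u, proj u = 1 ↔ u ∈ zt b := fun u => by
    show ((u : Quo b) : Quo b ⧸ Subgroup.center (Quo b)) = 1 ↔ _
    rw [QuotientGroup.eq_one_iff, center_eq b hb1 hb2 hK, mk_mem_zbar]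
  refine ⟨MonoidHom.mk' (fun g => proj (w g)) fun g h => ?_, ?_⟩
  · rw [← map_mul, ← mul_inv_eq_one, ← map_inv, ← map_mul, hproj]
    refine key _ _ (map_mul π g h) (by simp [w, act_apply]) fun x => ?_
    simp only [w, SemidirectProduct.mul_left, act_apply, Prod.fst_mul, Pi.mul_apply,
      QuotientGroup.mk_mul, hlift, hFmul, map_mul]
  · rw [injective_iff_map_eq_one]
    intro g hg
    obtain ⟨h1, -, h3⟩ := (hproj _).mp hg
    have h1' : π g = 1 := h1
    have h4 : ι (F g 1) = 1 := by
      rw [← hlift (ι (F g 1)), QuotientGroup.eq_one_iff]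
      exact h3 1
    have h5 := congrArg Subtype.val (hι (h4.trans (map_one ι).symm))
    simp only [F, h1', mul_one, OneMemClass.coe_one] at h5
    rw [mul_inv_eq_one] at h5
    exact mul_left_cancel (h5.trans (mul_one _).symm)

end Step

/-- A copy with an added central factor. -/
theorem prod_center {K C : Type*} [Group K] [CommGroup C] :
    Subgroup.center (K × C) = (Subgroup.center K).prod ⊤ := by
  ext ⟨k, c⟩
  simp only [Subgroup.mem_center_iff, Subgroup.mem_prod, Prod.forall, Prod.mk_mul_mk, Prod.mk.injEq,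
    Subgroup.mem_top, and_true]
  exact ⟨fun h a => (h a 1).1, fun h a d => ⟨h a, mul_comm _ _⟩⟩

theorem prod_isCT {K C : Type*} [Group K] [CommGroup C] (hK : IsCT K) : IsCT (K × C) := by
  rintro ⟨k, c⟩ hk
  simp only [prod_center, Subgroup.mem_prod, Subgroup.mem_top, and_true] at hk ⊢
  obtain ⟨h, h1, h2⟩ := hK k hk
  exact ⟨(h, 1), by simpa using h1, fun e => h2 (by simpa using congrArg Prod.fst e)⟩

/-- The pairing attached to a cyclic group of prime order. -/
theorem exists_pairing {K Q : Type*} [Group K] [Finite K] [CommGroup Q] [Finite Q] {p : ℕ}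
    [Fact p.Prime] (hQ : Nat.card Q = p) (hZ : p ∣ Nat.card (Subgroup.center K)) :
    ∃ b : Q →* Q →* Subgroup.center K, (∀ q : Q, q ≠ 1 → ∃ t, b q t ≠ 1) ∧
      (∀ t : Q, t ≠ 1 → ∃ q, b q t ≠ 1) := by
  obtain ⟨ζ, hζ⟩ := exists_prime_orderOf_dvd_card' p hZ
  haveI : IsCyclic Q := isCyclic_of_prime_card hQ
  have e : Q ≃* Multiplicative (ZMod p) :=
    mulEquivOfCyclicCardEq (by rw [hQ, Nat.card_eq_fintype_card, Fintype.card_multiplicative, ZMod.card])
  have e' : Multiplicative (ZMod p) ≃* Subgroup.zpowers ζ :=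
    mulEquivOfCyclicCardEq (by rw [Nat.card_zpowers, hζ, Nat.card_eq_fintype_card,
      Fintype.card_multiplicative, ZMod.card])
  let ι : Multiplicative (ZMod p) →* Subgroup.center K := (Subgroup.zpowers ζ).subtype.comp e'.toMonoidHom
  have hι : ∀ a : ZMod p, ι (Multiplicative.ofAdd a) = 1 ↔ a = 0 := fun a => by
    have hinj : Function.Injective ι := (Subgroup.subtype_injective _).comp e'.injective
    rw [← map_one ι, hinj.eq_iff]
    exact ofAdd_eq_one
  let a : Q → ZMod p := fun q => (e q).toAdd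
  have ha : ∀ q r, a (q * r) = a q + a r := fun q r => by simp [a]
  have ha0 : ∀ q, q ≠ 1 → a q ≠ 0 := fun q hq h => hq (e.injective (by simpa [a] using h))
  refine ⟨MonoidHom.mk' (fun q => MonoidHom.mk' (fun t => ι (Multiplicative.ofAdd (a q * a t)))
    fun t s => by rw [ha, mul_add, ofAdd_add, map_mul]) fun q r => MonoidHom.ext fun t => by
      simp only [MonoidHom.mk'_apply, MonoidHom.mul_apply, ha, add_mul, ofAdd_add, map_mul], ?_, ?_⟩
  · intro q hq
    refine ⟨q, fun h => ?_⟩
    rcases mul_eq_zero.mp ((hι _).mp h) with h' | h' <;> exact ha0 q hq h'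
  · intro t ht
    refine ⟨t, fun h => ?_⟩
    rcases mul_eq_zero.mp ((hι _).mp h) with h' | h' <;> exact ha0 t ht h'

/-- The conclusion of the induction. -/
def Model (G : Type u) [Group G] : Prop :=
  ∃ (H : Type u) (_ : Group H) (_ : Finite H), IsCT H ∧ Squarefree (Nat.card (Subgroup.center H)) ∧
    (∀ r : ℕ, r.Prime → (r ∣ Nat.card (Subgroup.center H) ↔ r ∣ Nat.card G)) ∧
    (∀ r : ℕ, r.Prime → r ∣ Nat.card H → r ∣ Nat.card G) ∧
    ∃ f : G →* H ⧸ Subgroup.center H, Function.Injective f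

/-- The step. -/
theorem model_step {G : Type u} [Group G] [Finite G] (N : Subgroup G) [N.Normal] {p : ℕ}
    [Fact p.Prime] (hN : N.index = p) (hmod : Model N) : Model G := by
  obtain ⟨H₀, iG, iF, hCT, hsq, hZ, hH, f₀, hf₀⟩ := hmod
  have hGcard : Nat.card N * p = Nat.card G := by rw [← hN, Subgroup.card_mul_index]
  -- make sure `p` divides the order of the centre
  obtain ⟨K, _, _, hKct, hKsq, hpK, hKZ, hKH, ι₀, hι₀⟩ : ∃ (K : Type u) (_ : Group K) (_ : Finite K),
      IsCT K ∧ Squarefree (Nat.card (Subgroup.center K)) ∧ p ∣ Nat.card (Subgroup.center K) ∧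
      (∀ r : ℕ, r.Prime → (r ∣ Nat.card (Subgroup.center K) ↔ r ∣ Nat.card G)) ∧
      (∀ r : ℕ, r.Prime → r ∣ Nat.card K → r ∣ Nat.card G) ∧
      ∃ f : N →* K ⧸ Subgroup.center K, Function.Injective f := by
    have hdiv : ∀ r : ℕ, r.Prime → (r ∣ Nat.card N ∨ r = p ↔ r ∣ Nat.card G) := fun r hr => by
      rw [← hGcard, hr.dvd_mul, Nat.prime_dvd_prime_iff_eq hr (Fact.out : p.Prime)]
    by_cases hp : p ∣ Nat.card (Subgroup.center H₀)
    · refine ⟨H₀, iG, iF, hCT, hsq, hp, fun r hr => ?_, fun r hr h => ?_, f₀, hf₀⟩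
      · rw [← hdiv r hr, hZ r hr]
        exact ⟨Or.inl, fun h => h.elim id fun e => e ▸ (hZ p Fact.out).mp hp⟩
      · exact (hdiv r hr).mp (Or.inl (hH r hr h))
    · have hc : Nat.card (Multiplicative (ZMod p)) = p := by
        rw [Nat.card_eq_fintype_card, Fintype.card_multiplicative, ZMod.card]
      have hcc : Nat.card (Subgroup.center (H₀ × Multiplicative (ZMod p))) =
          Nat.card (Subgroup.center H₀) * p := by
        rw [prod_center, Nat.card_congr (Subgroup.prodEquiv _ _).toEquiv, Nat.card_prod,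
          Subgroup.card_top, hc]
      refine ⟨H₀ × Multiplicative (ZMod p), inferInstance, inferInstance, prod_isCT hCT, ?_,
        hcc ▸ Dvd.intro_left _ rfl, fun r hr => ?_, fun r hr h => ?_, ?_⟩
      · rw [hcc, Nat.squarefree_mul_iff]
        exact ⟨((Fact.out : p.Prime).coprime_iff_not_dvd.mpr hp).symm, hsq, (Fact.out : p.Prime).prime.squarefree⟩
      · rw [hcc, hr.dvd_mul, Nat.prime_dvd_prime_iff_eq hr (Fact.out : p.Prime), hZ r hr, hdiv r hr]
      · rw [Nat.card_prod, hc, hr.dvd_mul, Nat.prime_dvd_prime_iff_eq hr (Fact.out : p.Prime)] at h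
        exact (hdiv r hr).mp (h.imp (hH r hr) id)
      · refine ⟨(QuotientGroup.map _ _ (MonoidHom.inl H₀ (Multiplicative (ZMod p))) fun x hx => by
            simpa [prod_center, Subgroup.mem_prod] using hx).comp f₀, ?_⟩
        rw [MonoidHom.coe_comp]
        refine Function.Injective.comp ?_ hf₀
        rw [injective_iff_map_eq_one]
        intro x hx
        induction x using QuotientGroup.induction_on with
        | _ k =>
          rw [QuotientGroup.map_mk, QuotientGroup.eq_one_iff] at hx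
          rw [QuotientGroup.eq_one_iff]
          simpa [prod_center, Subgroup.mem_prod] using hx
  haveI := Fintype.ofFinite (G ⧸ N)
  have hQ : Nat.card (G ⧸ N) = p := hN
  haveI : IsCyclic (G ⧸ N) := isCyclic_of_prime_card hQ
  letI : CommGroup (G ⧸ N) := IsCyclic.commGroup
  obtain ⟨b, hb1, hb2⟩ := exists_pairing (K := K) hQ hpK
  obtain ⟨f, hf⟩ := exists_embed b hb1 hb2 hKct (QuotientGroup.mk' N)
    (QuotientGroup.mk'_surjective N)
    (ι₀.comp (Subgroup.inclusion (QuotientGroup.ker_mk' N).le))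
    (hι₀.comp (Subgroup.inclusion_injective _))
  haveI : Finite (Big b) := Finite.of_equiv _ SemidirectProduct.equivProd.symm
  refine ⟨Quo b, inferInstance, inferInstance, quo_isCT b hb1 hb2 hKct,
    by rw [card_center b hb1 hb2 hKct]; exact hKsq,
    fun r hr => by rw [card_center b hb1 hb2 hKct]; exact hKZ r hr, fun r hr h => ?_, f, hf⟩
  have h' : r ∣ Nat.card (Big b) := h.trans (Subgroup.card_quotient_dvd_card _)
  have hp' : p ∣ Nat.card G := hGcard ▸ Dvd.intro_left _ rfl
  rw [card_big, Nat.card_pi, Finset.prod_const, hQ] at h'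
  rcases hr.dvd_mul.mp h' with h1 | h1
  · rcases hr.dvd_mul.mp h1 with h2 | h2
    · exact hKH r hr (hr.dvd_of_dvd_pow h2)
    · rcases hr.dvd_mul.mp h2 with h3 | h3
      · exact (hKZ r hr).mp h3
      · exact h3.trans hp'
  · exact h1.trans hp'

theorem model_one {G : Type u} [Group G] [Subsingleton G] : Model G :=
  ⟨G, inferInstance, inferInstance,
    fun g hg => absurd (Subsingleton.elim g 1 ▸ one_mem _) hg,
    by simp [Nat.card_unique], fun r hr => by simp [Nat.card_unique],
    fun r _ h => h, 1, fun _ _ _ => Subsingleton.elim _ _⟩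

theorem exists_normal_prime_index {G : Type*} [Group G] [Finite G] (M : Subgroup G)
    (hM : IsCoatom M) (hle : commutator G ≤ M) :
    ∃ (N : Subgroup G) (_ : N.Normal) (p : ℕ), p.Prime ∧ N.index = p := by
  haveI hn : M.Normal := Subgroup.Normal.mk fun m hm g => by
    rw [show g * m * g⁻¹ = (g * m * g⁻¹ * m⁻¹) * m by group]
    exact mul_mem (hle (Subgroup.commutator_mem_commutator (Subgroup.mem_top g) (Subgroup.mem_top m))) hm
  refine ⟨M, hn, M.index, ?_, rfl⟩
  haveI : Nontrivial (G ⧸ M) := QuotientGroup.nontrivial_iff.mpr hM.1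
  haveI : IsSimpleGroup (G ⧸ M) := ⟨fun N _ => by
    have h := Subgroup.map_comap_eq_self_of_surjective (QuotientGroup.mk'_surjective M) N
    rcases hM.le_iff.mp (QuotientGroup.le_comap_mk' M N) with e | e
    · rw [e, Subgroup.map_top_of_surjective _ (QuotientGroup.mk'_surjective M)] at h
      exact Or.inr h.symm
    · rw [e, QuotientGroup.map_mk'_self] at h
      exact Or.inl h.symm⟩
  letI : CommGroup (G ⧸ M) :=
    { (inferInstance : Group (G ⧸ M)) with
      mul_comm := fun a b => by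
        induction a using QuotientGroup.induction_on with
        | _ a =>
          induction b using QuotientGroup.induction_on with
          | _ b =>
            rw [← QuotientGroup.mk_mul, ← QuotientGroup.mk_mul, QuotientGroup.eq]
            rw [show (a * b)⁻¹ * (b * a) = b⁻¹ * a⁻¹ * b⁻¹⁻¹ * a⁻¹⁻¹ by group]
            exact hle (Subgroup.commutator_mem_commutator (Subgroup.mem_top _) (Subgroup.mem_top _)) }
  exact IsSimpleGroup.prime_card

theorem exists_ct_of_solvable {G : Type u} [Group G] [Finite G] (hsol : Group.IsSolvable G) :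
    Model G := by
  induction hn : Nat.card G using Nat.strong_induction_on generalizing G with
  | _ n ih =>
    subst hn
    rcases subsingleton_or_nontrivial G with hs | hnt
    · exact model_one
    haveI := hsol
    have hne : commutator G ≠ ⊤ := (IsSolvable.commutator_lt_top_of_nontrivial G).ne
    obtain ⟨M, hM, hle⟩ := (eq_top_or_exists_le_coatom (commutator G)).resolve_left hne
    obtain ⟨N, hNn, p, hp, hN⟩ : ∃ (N : Subgroup G) (_ : N.Normal) (p : ℕ), p.Prime ∧ N.index = p :=
      exists_normal_prime_index M hM hle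
    haveI := Fact.mk hp
    refine model_step N hN (ih _ ?_ inferInstance rfl)
    rw [← Subgroup.card_mul_index N, hN]
    exact (Nat.lt_mul_iff_one_lt_right Nat.card_pos).mpr hp.one_lt

end Cfsg.Agent.CentralType
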