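import Cfsg.Prelude.Def_Blocks
import Cfsg.Agent.Lib.CentralType.Step
import Cfsg.Agent.Lib.FullyRamified.Basic
import Cfsg.Agent.Lib.CharApp.CoprimeFixed
import Cfsg.Agent.Lib.CharApp.Schur

/-!
# A faithful fully ramified character of a group of central type

* `exists_faithful_char`: `IsCT H`, `Z(H)` cyclic ⇒ a faithful irreducible character with
  degree squared the index of the centre.
-/

set_option autoImplicit false
set_option linter.style.haveILetI false

namespace Cfsg.Agent.CentralType

open Cfsg Cfsg.Agent.Char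
open scoped ComplexConjugate

variable {H : Type*} [Group H] [Finite H]

theorem exists_faithful_linear (Z : Type*) [CommGroup Z] [Finite Z]
    (hsq : Squarefree (Nat.card Z)) : ∃ l : Z →* ℂ, Function.Injective l := by
  haveI : IsCyclic Z := by
    apply IsCyclic.of_exponent_eq_card
    refine Nat.dvd_antisymm Group.exponent_dvd_nat_card ?_
    rw [← Nat.prod_primeFactors_of_squarefree hsq]
    refine Finset.prod_primes_dvd _ (fun r hr => (Nat.prime_of_mem_primeFactors hr).prime) fun r hr => ?_
    haveI := Fact.mk (Nat.prime_of_mem_primeFactors hr)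
    obtain ⟨x, hx⟩ := exists_prime_orderOf_dvd_card' r (Nat.dvd_of_mem_primeFactors hr)
    exact hx ▸ Monoid.order_dvd_exponent x
  haveI : NeZero (Nat.card Z) := ⟨Nat.card_pos.ne'⟩
  have e : Z ≃* rootsOfUnity (Nat.card Z) ℂ :=
    mulEquivOfCyclicCardEq (Complex.card_rootsOfUnity _).symm
  exact ⟨((Units.coeHom ℂ).comp (rootsOfUnity (Nat.card Z) ℂ).subtype).comp e.toMonoidHom,
    (Units.val_injective.comp (Subgroup.subtype_injective _)).comp e.injective⟩

open scoped IsMulCommutative in
theorem exists_faithful_char (hct : IsCT H) (hsq : Squarefree (Nat.card (Subgroup.center H))) :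
    ∃ χ : IrrCharacter H, (∀ h : H, (χ : H → ℂ) h = (χ : H → ℂ) 1 → h = 1) ∧
      (charDegree (χ : H → ℂ)) ^ 2 = (Subgroup.center H).index := by
  classical
  haveI := Fintype.ofFinite H
  set Z := Subgroup.center H with hZdef
  haveI := Fintype.ofFinite Z
  obtain ⟨l, hl⟩ := exists_faithful_linear Z hsq
  have hlirr : IsIrrCharacter Z (l : Z → ℂ) := isIrrCharacter_of_hom l
  obtain ⟨ψ, hψ, hover⟩ := CharApp.exists_over Z hlirr
  -- `ψ|Z = ψ 1 • l`
  have hconj : ∀ x : H, CliffordChar.conjFun Z x (l : Z → ℂ) = l := fun x => funext fun z => by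
    rw [CliffordChar.conjFun_apply]
    congr 1
    refine Subtype.ext ?_
    simp only [inv_inv]
    rw [Subgroup.mem_center_iff.mp z.2 x⁻¹, inv_mul_cancel_right]
  have hres : ∀ z : Z, ψ z = ψ 1 * l z := by
    have h := CliffordChar.restrict_eq Z hψ hlirr hover
    set c := classInner (fun n : Z => ψ n) l / classInner (CliffordChar.orbitSum Z (l : Z → ℂ)) l
    have h' : ∀ z : Z, ψ z = c * ((Nat.card H : ℂ) * l z) := fun z => by
      have := congrFun h z
      simp only [Pi.smul_apply, smul_eq_mul, CliffordChar.orbitSum, hconj, Finset.sum_const,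
        Finset.card_univ, nsmul_eq_mul, Pi.mul_apply, Pi.natCast_apply] at this
      rw [this, Nat.card_eq_fintype_card]
    intro z
    have h1 := h' 1
    rw [OneMemClass.coe_one, map_one, mul_one] at h1
    rw [h' z, h1, mul_assoc]
  obtain ⟨d, hd0, hd⟩ := IsIrrCharacter.exists_degree hψ
  have hne : ψ 1 ≠ 0 := IsIrrCharacter.apply_one_ne_zero hψ
  have hmul : ∀ (z : Z) (g : H), ψ (z * g) = l z * ψ g := by
    obtain ⟨n, ρ, hρ, rfl⟩ := hψ
    haveI := hρ
    intro z g
    obtain ⟨a, ha⟩ := CharApp.exists_scalar_of_mem_center ρ z.2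
    have e : ∀ g : H, ρ.character (z * g) = a * ρ.character g := fun g => by
      show LinearMap.trace ℂ _ (ρ (z * g)) = a * LinearMap.trace ℂ _ (ρ g)
      rw [map_mul, ha, smul_mul_assoc, one_mul, map_smul, smul_eq_mul]
    have := e 1
    rw [mul_one, hres z, mul_comm] at this
    rw [e g, mul_right_cancel₀ hne this]
  have hoff : ∀ g, g ∉ Z → ψ g = 0 := by
    intro g hg
    obtain ⟨h, hh, hh1⟩ := hct g hg
    have e := (IsIrrCharacter.isClassFunction hψ) g h
    rw [show h * g * h⁻¹ = (⟨_, hh⟩ : Z) * g by simp [mul_assoc]] at e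
    rw [hmul] at e
    by_contra hne'
    have h2 : l ⟨_, hh⟩ = 1 := mul_right_cancel₀ hne' (e.trans (one_mul _).symm)
    exact hh1 (congrArg Subtype.val (hl (h2.trans (map_one l).symm)))
  refine ⟨⟨ψ, hψ⟩, fun h hh => ?_, ?_⟩
  · by_cases hZ : h ∈ Z
    · change ψ h = ψ 1 at hh
      have := hres ⟨h, hZ⟩
      rw [show ψ (⟨h, hZ⟩ : Z) = ψ 1 from hh] at this
      have h2 : l ⟨h, hZ⟩ = 1 := mul_left_cancel₀ hne (this.symm.trans (mul_one _).symm)
      exact congrArg Subtype.val (hl (h2.trans (map_one l).symm))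
    · exact absurd ((hoff h hZ).symm.trans hh).symm hne
  · have hcd : charDegree ψ = d := by simp [charDegree, hd]
    show (charDegree ψ) ^ 2 = _
    rw [hcd]
    have h1 : ∑ z : Z, l z * conj (l z) = (Nat.card Z : ℂ) := FullyRamified.sum_self hlirr
    have h2 : ∑ g : H, ψ g * conj (ψ g) = (Nat.card H : ℂ) := FullyRamified.sum_self hψ
    rw [FullyRamified.sum_eq_sum_of_support Z _ (fun g hg => by simp [hoff g hg])] at h2
    simp only [hres, map_mul, hd, map_natCast] at h2
    rw [Finset.sum_congr rfl (g := fun z => (d : ℂ) ^ 2 * (l z * conj (l z))) (fun z _ => by ring),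
      ← Finset.mul_sum, h1, ← Subgroup.card_mul_index Z] at h2
    have h3 : (d ^ 2 * Nat.card Z : ℕ) = Nat.card Z * Z.index := by exact_mod_cast h2
    rw [mul_comm] at h3
    exact Nat.eq_of_mul_eq_mul_left Nat.card_pos h3

end Cfsg.Agent.CentralType
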